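import Cfsg.Agent.H0.MK1.D
set_option maxRecDepth 100000
set_option Elab.async false
set_option linter.unusedSectionVars false
namespace H0.MK1
open H0 BN 
theorem c0 : relsW R 0 5 ((B.drop 0).take 46) = true := by decide +kernel
theorem c1 : relsW R 5 5 ((B.drop 0).take 46) = true := by decide +kernel
theorem c2 : relsW R 10 5 ((B.drop 0).take 46) = true := by decide +kernel
theorem c3 : eqW R 0 5 [18] [14, 14, 13, 15, 15, 15, 13, 15, 13, 15, 15, 13, 13, 15, 13, 14, 13, 13] = true := by decide +kernel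
theorem c4 : eqW R 5 5 [18] [14, 14, 13, 15, 15, 15, 13, 15, 13, 15, 15, 13, 13, 15, 13, 14, 13, 13] = true := by decide +kernel
theorem c5 : eqW R 10 5 [18] [14, 14, 13, 15, 15, 15, 13, 15, 13, 15, 15, 13, 13, 15, 13, 14, 13, 13] = true := by decide +kernel
theorem c6 : eqW R 0 5 [17] [15, 13, 15, 13, 14, 13, 14, 15, 14, 13, 14, 13, 14, 15, 15, 14, 14, 14] = true := by decide +kernel
theorem c7 : eqW R 5 5 [17] [15, 13, 15, 13, 14, 13, 14, 15, 14, 13, 14, 13, 14, 15, 15, 14, 14, 14] = true := by decide +kernel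
theorem c8 : eqW R 10 5 [17] [15, 13, 15, 13, 14, 13, 14, 15, 14, 13, 14, 13, 14, 15, 15, 14, 14, 14] = true := by decide +kernel
theorem c9 : eqW R 0 5 [16] [14, 13, 14, 15, 13, 15, 14, 13, 15, 13, 15, 13, 15, 13, 14, 15, 15, 15, 14, 14, 14] = true := by decide +kernel
theorem c10 : eqW R 5 5 [16] [14, 13, 14, 15, 13, 15, 14, 13, 15, 13, 15, 13, 15, 13, 14, 15, 15, 15, 14, 14, 14] = true := by decide +kernel
theorem c11 : eqW R 10 5 [16] [14, 13, 14, 15, 13, 15, 14, 13, 15, 13, 15, 13, 15, 13, 14, 15, 15, 15, 14, 14, 14] = true := by decide +kernel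
theorem c12 : eqW R 0 5 [15] [11, 12, 12, 11, 12, 11, 12, 12, 11, 12, 12, 11, 12, 12, 12, 11, 12, 11, 11, 12, 12, 12, 12, 11] = true := by decide +kernel
theorem c13 : eqW R 5 5 [15] [11, 12, 12, 11, 12, 11, 12, 12, 11, 12, 12, 11, 12, 12, 12, 11, 12, 11, 11, 12, 12, 12, 12, 11] = true := by decide +kernel
theorem c14 : eqW R 10 5 [15] [11, 12, 12, 11, 12, 11, 12, 12, 11, 12, 12, 11, 12, 12, 12, 11, 12, 11, 11, 12, 12, 12, 12, 11] = true := by decide +kernel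
theorem c15 : eqW R 0 5 [14] [12, 12, 11, 11, 11, 12, 11, 11, 12, 11, 12, 11, 11, 12, 11, 12, 11, 12, 12, 12, 12, 12] = true := by decide +kernel
theorem c16 : eqW R 5 5 [14] [12, 12, 11, 11, 11, 12, 11, 11, 12, 11, 12, 11, 11, 12, 11, 12, 11, 12, 12, 12, 12, 12] = true := by decide +kernel
theorem c17 : eqW R 10 5 [14] [12, 12, 11, 11, 11, 12, 11, 11, 12, 11, 12, 11, 11, 12, 11, 12, 11, 12, 12, 12, 12, 12] = true := by decide +kernel
theorem c18 : eqW R 0 5 [13] [12, 12, 12, 11, 12, 12, 11, 12, 12, 11, 12, 12, 12, 11, 12, 12, 12, 11, 11, 12, 11] = true := by decide +kernel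
theorem c19 : eqW R 5 5 [13] [12, 12, 12, 11, 12, 12, 11, 12, 12, 11, 12, 12, 12, 11, 12, 12, 12, 11, 11, 12, 11] = true := by decide +kernel
theorem c20 : eqW R 10 5 [13] [12, 12, 12, 11, 12, 12, 11, 12, 12, 11, 12, 12, 12, 11, 12, 12, 12, 11, 11, 12, 11] = true := by decide +kernel
theorem c21 : eqW R 0 5 [12] [9, 9, 9, 9, 9, 9, 10, 9, 9, 9, 10, 10, 10, 9, 10, 9, 9, 10] = true := by decide +kernel
theorem c22 : eqW R 5 5 [12] [9, 9, 9, 9, 9, 9, 10, 9, 9, 9, 10, 10, 10, 9, 10, 9, 9, 10] = true := by decide +kernel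
theorem c23 : eqW R 10 5 [12] [9, 9, 9, 9, 9, 9, 10, 9, 9, 9, 10, 10, 10, 9, 10, 9, 9, 10] = true := by decide +kernel
theorem c24 : eqW R 0 5 [11] [10, 10, 9, 9, 10, 10, 9, 9, 9, 9, 10, 9, 9, 10, 10, 10, 9, 10, 10, 9, 10] = true := by decide +kernel
theorem c25 : eqW R 5 5 [11] [10, 10, 9, 9, 10, 10, 9, 9, 9, 9, 10, 9, 9, 10, 10, 10, 9, 10, 10, 9, 10] = true := by decide +kernel
theorem c26 : eqW R 10 5 [11] [10, 10, 9, 9, 10, 10, 9, 9, 9, 9, 10, 9, 9, 10, 10, 10, 9, 10, 10, 9, 10] = true := by decide +kernel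
theorem c27 : eqW R 0 5 [10] [0, 1, 8, 4, 1, 3, 4, 1, 8, 3, 2, 8, 6, 0, 5, 7, 4, 3] = true := by decide +kernel
theorem c28 : eqW R 5 5 [10] [0, 1, 8, 4, 1, 3, 4, 1, 8, 3, 2, 8, 6, 0, 5, 7, 4, 3] = true := by decide +kernel
theorem c29 : eqW R 10 5 [10] [0, 1, 8, 4, 1, 3, 4, 1, 8, 3, 2, 8, 6, 0, 5, 7, 4, 3] = true := by decide +kernel
theorem c30 : eqW R 0 5 [9] [4, 3, 5, 6, 4, 7, 5, 2, 0, 2, 4, 3, 2, 1, 2, 6] = true := by decide +kernel
theorem c31 : eqW R 5 5 [9] [4, 3, 5, 6, 4, 7, 5, 2, 0, 2, 4, 3, 2, 1, 2, 6] = true := by decide +kernel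
theorem c32 : eqW R 10 5 [9] [4, 3, 5, 6, 4, 7, 5, 2, 0, 2, 4, 3, 2, 1, 2, 6] = true := by decide +kernel
theorem c33 : Model.fixP R [20378, 6319, 0] [[16], [17], [18]] = true := by decide +kernel
theorem c34 : Model.growP R [[16], [17], [18]] [0, 1, 2, 0, 1, 2] 1 27 = true := by decide +kernel
theorem c35 : Model.fixP R [6319, 0] [[13], [14], [15]] = true := by decide +kernel
theorem c36 : Model.growP R [[13], [14], [15]] [0, 1, 2, 0, 1, 2, 0, 1, 2, 0, 1, 2, 0, 1, 2, 0, 1, 0] 20378 7776 = true := by decide +kernel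
theorem c37 : Model.fixP R [0] [[11], [12]] = true := by decide +kernel
theorem c38 : Model.growP R [[11], [12]] [0, 1, 0, 1, 0, 1, 0, 1, 0, 1, 0, 1, 0, 1, 0, 1, 0, 1, 0, 1, 0, 1, 0, 1, 0] 6319 21840 = true := by decide +kernel
theorem c39 : Model.fixP R [] [[9], [10]] = true := by decide +kernel
theorem c40 : Model.growP R [[9], [10]] [0, 1, 0, 1, 0, 1, 0, 1, 0, 1, 0, 1, 0, 1, 0, 1, 0, 1, 0, 1, 0, 1, 0, 1, 0, 1, 0, 0] 0 28160 = true := by decide +kernel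
theorem c41 : relsW R 0 5 ((spR.drop 0).take 1) = true := by decide +kernel
theorem c42 : relsW R 5 5 ((spR.drop 0).take 1) = true := by decide +kernel
theorem c43 : relsW R 10 5 ((spR.drop 0).take 1) = true := by decide +kernel
end H0.MK1
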