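import Cfsg.Agent.H0.MK1.K0
import Cfsg.Agent.H0.TCA3.Main
import Cfsg.Agent.H0.TCA4.Main
import Cfsg.Agent.H0.TCD5.Main
import Cfsg.Agent.H0.TCK1d.Main
import Cfsg.Agent.H0.TCK1c.Main
import Cfsg.Agent.H0.TCK1b.Main
import Cfsg.Agent.H0.TCK1a.Main
set_option maxRecDepth 100000
set_option Elab.async false
set_option linter.unusedSectionVars false
namespace H0.MK1
open H0 BN 
theorem rels : ∀ r ∈ B, ev R.p r = 1 := all_take_done (all_take_step (all_take_zero _ B) (bits_done R (bits_step R (bits_step R (bits_step R (bits_zero R ((B.drop 0).take 46)) c0) c1) c2))) (by decide +kernel)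
theorem defs_ok : DefsOK R.p defs 9 := (defsOK_cons (eq_of_bits R (eqb_step R (eqb_step R (eqb_step R (eqb_zero R [9] [4, 3, 5, 6, 4, 7, 5, 2, 0, 2, 4, 3, 2, 1, 2, 6]) c30) c31) c32)) (by decide) (defsOK_cons (eq_of_bits R (eqb_step R (eqb_step R (eqb_step R (eqb_zero R [10] [0, 1, 8, 4, 1, 3, 4, 1, 8, 3, 2, 8, 6, 0, 5, 7, 4, 3]) c27) c28) c29)) (by decide) (defsOK_cons (eq_of_bits R (eqb_step R (eqb_step R (eqb_step R (eqb_zero R [11] [10, 10, 9, 9, 10, 10, 9, 9, 9, 9, 10, 9, 9, 10, 10, 10, 9, 10, 10, 9, 10]) c24) c25) c26)) (by decide) (defsOK_cons (eq_of_bits R (eqb_step R (eqb_step R (eqb_step R (eqb_zero R [12] [9, 9, 9, 9, 9, 9, 10, 9, 9, 9, 10, 10, 10, 9, 10, 9, 9, 10]) c21) c22) c23)) (by decide) (defsOK_cons (eq_of_bits R (eqb_step R (eqb_step R (eqb_step R (eqb_zero R [13] [12, 12, 12, 11, 12, 12, 11, 12, 12, 11, 12, 12, 12, 11, 12, 12, 12, 11, 11, 12, 11]) c18) c19) c20)) (by decide) (defsOK_cons (eq_of_bits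 R (eqb_step R (eqb_step R (eqb_step R (eqb_zero R [14] [12, 12, 11, 11, 11, 12, 11, 11, 12, 11, 12, 11, 11, 12, 11, 12, 11, 12, 12, 12, 12, 12]) c15) c16) c17)) (by decide) (defsOK_cons (eq_of_bits R (eqb_step R (eqb_step R (eqb_step R (eqb_zero R [15] [11, 12, 12, 11, 12, 11, 12, 12, 11, 12, 12, 11, 12, 12, 12, 11, 12, 11, 11, 12, 12, 12, 12, 11]) c12) c13) c14)) (by decide) (defsOK_cons (eq_of_bits R (eqb_step R (eqb_step R (eqb_step R (eqb_zero R [16] [14, 13, 14, 15, 13, 15, 14, 13, 15, 13, 15, 13, 15, 13, 14, 15, 15, 15, 14, 14, 14]) c9) c10) c11)) (by decide) (defsOK_cons (eq_of_bits R (eqb_step R (eqb_step R (eqb_step R (eqb_zero R [17] [15, 13, 15, 13, 14, 13, 14, 15, 14, 13, 14, 13, 14, 15, 15, 14, 14, 14]) c6) c7) c8)) (by decide) (defsOK_cons (eq_of_bits R (eqb_step R (eqb_step R (eqb_step R (eqb_zero R [18] [14, 14, 13, 15, 15, 15, 13, 15, 13, 15, 15, 13, 13, 15, 13, 14, 13, 13]) c3) c4) c5)) (by decide)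 (defsOK_nil _ _)))))))))))
variable {G : Type} [Group G] (P : Pres G 9 B)
noncomputable def m : Model G := P.model defs R rels (by decide +kernel) defs_ok R_ge
include P
theorem mR : (m P).R = R := rfl
theorem g_eq {x : ℕ} (h : x < 9) : (m P).g x = P.g x := extG_out defs P.g 9 (Or.inl h)
theorem top : gen (m P).g (lets 9) = ⊤ := (gen_extG defs P.g 9 (by decide)).trans P.top
theorem grel : ∀ r ∈ B, ev (m P).g r = 1 := rels_extG defs 9 (by decide +kernel) P.rel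
theorem hi : ∀ x < 9, (m P).g x * (m P).g (inv x) = 1 := inv_of_invChk (grel P) (by decide +kernel)
theorem upper : Finite G ∧ Nat.card G ≤ 387370509926400 := card_of_top (top P) ((chain_step (σ := [[0], [1], [2], [3], [4], [5], [6], [7], [8]]) (n := 28160) H0.TCK1a.main rfl rfl (rels_of_consChk (grel P) 9 inv (by decide +kernel)) (chain_step (σ := [[0], [1], [2], [3], [4], [5], [7], [8]]) (n := 9477) H0.TCK1b.main rfl rfl (rels_of_consChk (grel P) 9 inv (by decide +kernel)) (chain_step (σ := [[0], [1], [2], [3], [4], [5], [7]]) (n := 28) H0.TCK1c.main rfl rfl (rels_of_consChk (grel P) 9 inv (by decide +kernel)) (chain_step (σ := [[1], [2], [3], [4], [5], [7]]) (n := 27) H0.TCK1d.main rfl rfl (rels_of_consChk (grel P) 9 inv (by decide +kernel)) (chain_step (σ := [[2], [3], [4], [5], [7]]) (n := 16) H0.TCD5.main rfl rfl (rels_of_consChk (grel P) 9 inv (by decide +kernel)) (chain_step (σ := [[2], [3], [4], [5]]) (n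 := 5) H0.TCA4.main rfl rfl (rels_of_consChk (grel P) 9 inv (by decide +kernel)) (chain_step (σ := [[2], [3], [4]]) (n := 24) H0.TCA3.main rfl rfl (rels_of_consChk (grel P) 9 inv (by decide +kernel)) (chain_start _)))))))).imp_right fun h => h.trans (by decide +kernel))
theorem fin : Finite G := (upper P).1
theorem ch_ok : (m P).ChainOK ch [] :=
  haveI := fin P
  ((m P).chain_cons [0, 1, 0, 1, 0, 1, 0, 1, 0, 1, 0, 1, 0, 1, 0, 1, 0, 1, 0, 1, 0, 1, 0, 1, 0, 1, 0, 0] (Model.via _ (mR P) (fun R => Model.fixP R [] [[9], [10]]) c39) (Model.via _ (mR P) (fun R => Model.growP R [[9], [10]] [0, 1, 0, 1, 0, 1, 0, 1, 0, 1, 0, 1, 0, 1, 0, 1, 0, 1, 0, 1, 0, 1, 0, 1, 0, 1, 0, 0] 0 28160) c40) ((m P).chain_cons [0, 1, 0, 1, 0, 1, 0, 1, 0, 1, 0, 1, 0, 1, 0, 1, 0, 1, 0, 1, 0, 1, 0, 1, 0] (Model.via _ (mR P) (fun R => Model.fixP R [0] [[11], [12]]) c37) (Model.via _ (mR P) (fun R => Model.growP R [[11], [12]] [0, 1, 0, 1, 0, 1, 0,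 1, 0, 1, 0, 1, 0, 1, 0, 1, 0, 1, 0, 1, 0, 1, 0, 1, 0] 6319 21840) c38) ((m P).chain_cons [0, 1, 2, 0, 1, 2, 0, 1, 2, 0, 1, 2, 0, 1, 2, 0, 1, 0] (Model.via _ (mR P) (fun R => Model.fixP R [6319, 0] [[13], [14], [15]]) c35) (Model.via _ (mR P) (fun R => Model.growP R [[13], [14], [15]] [0, 1, 2, 0, 1, 2, 0, 1, 2, 0, 1, 2, 0, 1, 2, 0, 1, 0] 20378 7776) c36) ((m P).chain_cons [0, 1, 2, 0, 1, 2] (Model.via _ (mR P) (fun R => Model.fixP R [20378, 6319, 0] [[16], [17], [18]]) c33) (Model.via _ (mR P) (fun R => Model.growP R [[16], [17], [18]] [0, 1, 2, 0, 1, 2] 1 27) c34) ((m P).chain_nil _)))))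
omit P in
theorem sprel : ∀ r ∈ spR, ev R.p r = 1 := all_take_done (all_take_step (all_take_zero _ spR) (bits_done R (bits_step R (bits_step R (bits_step R (bits_zero R ((spR.drop 0).take 1)) c41) c42) c43))) (by decide +kernel)
theorem cen : ev P.g sp ∈ Subgroup.center G ∧ (ev P.g sp ^ 2 = 1 ∨ ev P.g sp ^ 3 = 1) := by
  haveI := fin P
  have h := (m P).ker_small (ch_ok P) (upper P).2 (by decide +kernel)
  have hs : ev P.g sp ∈ (m P).φ.ker := by
    rw [← ev_extG defs P.g 9 (by decide +kernel)]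
    exact ((m P).φ_ev sp).trans (sprel sp (List.mem_singleton_self _))
  exact ⟨central_small _ h (perfect_of_conn P.rel P.top (par := [0, 0, 1, 2, 3, 4, 5, 3, 7]) (by decide +kernel)
    (r := wpow [0, 1, 2, 3, 4, 5, 7] 9) (by decide +kernel)) hs, sq_or_cube _ h hs⟩
omit P in
theorem cen' {E : Type} [Group E] (f : ℕ → E) (h : ∀ r ∈ B, ev f r = 1) :
    (∀ x < 9, ev f sp * f x = f x * ev f sp) ∧ (ev f sp ^ 2 = 1 ∨ ev f sp ^ 3 = 1) := by
  obtain ⟨φ, hφ⟩ := (Pres.pg 9 B).exists_hom f h (by decide +kernel)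
  obtain ⟨h1, h2⟩ := cen (Pres.pg 9 B)
  have e : φ (ev (Pres.pg 9 B).g sp) = ev f sp := by
    rw [map_ev]; exact ev_congr (k := 9) (fun x hx => (hφ x hx).symm) (by decide +kernel)
  refine ⟨fun x hx => ?_, ?_⟩
  · rw [← e, ← hφ x hx, ← map_mul, ← map_mul, Subgroup.mem_center_iff.1 h1]
  · rw [← e, ← map_pow, ← map_pow]; exact h2.imp (fun h => by rw [h, map_one]) fun h => by rw [h, map_one]
end H0.MK1
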